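import Groth.Agent.SepDegree.EtCrit
import Groth.Agent.BddFibMore.Basic
import Groth.Agent.SubGen.SpreadBase
import Groth.Agent.GrpBasic.ReducedNhd
import Mathlib.AlgebraicGeometry.AlgClosed.Basic

/-! The degree of the generic fibre and the cardinality of geometric fibres. -/

set_option autoImplicit false
set_option linter.style.haveILetI false
set_option backward.isDefEq.respectTransparency false
universe u
open CategoryTheory CategoryTheory.Limits AlgebraicGeometry TopologicalSpace

namespace Groth.Agent.SepDegree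

theorem finrank_gamma_eq_sum {K : Type u} [Field K] {P : Scheme.{u}} (q : P ⟶ Spec (CommRingCat.of K))
    [IsFinite q] [IsReduced P] :
    letI := (q.appTop.hom.comp (Scheme.ΓSpecIso (CommRingCat.of K)).inv.hom).toAlgebra
    Module.finrank K Γ(P, ⊤) = ∑ᶠ x : P, EGA4loc.residueDegree q x := by
  classical
  have hP : Finite P := (SpQS.natCard_le_finrank q).1
  have : IsAffine P := isAffine_of_isAffineHom q
  have hdisc := SpQS.discrete_of_isFinite q
  let φ : CommRingCat.of K ⟶ Γ(P, ⊤) := (Scheme.ΓSpecIso _).inv ≫ q.appTop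
  have hφ : Spec.map φ = P.isoSpec.inv ≫ q := by
    rw [← Scheme.isoSpec_inv_naturality]
    simp [φ, Scheme.isoSpec_Spec_inv]
  obtain ⟨hA, -⟩ := SpQS.finrank_eq_of_field q φ hφ
  have : Fintype P := Fintype.ofFinite P
  rw [finsum_eq_sum_of_fintype]
  let := φ.hom.toAlgebra
  let : ∀ x, Algebra K (P.residueField x) := fun x => (φ ≫ P.Γevaluation x).hom.toAlgebra
  let L : Γ(P, ⊤) →ₗ[K] ∀ x, P.residueField x :=
    LinearMap.pi fun x => { (P.Γevaluation x).hom with
      map_smul' := fun c a => by simp [Algebra.smul_def, RingHom.algebraMap_toAlgebra] }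
  have hsur : ∀ x, Function.Surjective (P.Γevaluation x) :=
    fun x => BddFibMore.gammaEval_surjective P φ hA x
  have hsep : ∀ x, ∃ a, P.Γevaluation x a ≠ 0 ∧ ∀ y, y ≠ x → P.Γevaluation y a = 0 := by
    intro x
    obtain ⟨a, ha, hxa⟩ := (isAffineOpen_top P).exists_basicOpen_le
      (V := ⟨{x}, isOpen_discrete _⟩) ⟨x, rfl⟩ trivial
    refine ⟨a, (P.Γevaluation_ne_zero_iff_mem_basicOpen x a).2 hxa, fun y hy => ?_⟩
    by_contra h
    exact hy (ha ((P.Γevaluation_ne_zero_iff_mem_basicOpen y a).1 h))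
  have hL : Function.Bijective L := by
    refine ⟨(injective_iff_map_eq_zero L).2 fun a ha => ?_, ?_⟩
    · refine basicOpen_eq_bot_iff a |>.1 (eq_bot_iff.2 fun x hx => ?_)
      exact ((P.Γevaluation_ne_zero_iff_mem_basicOpen x a).2 hx (congrFun ha x)).elim
    · choose a ha ha' using hsep
      intro c
      choose b hb using fun x => hsur x (c x / P.Γevaluation x (a x))
      refine ⟨∑ x, a x * b x, funext fun y => ?_⟩
      show P.Γevaluation y (∑ x, a x * b x) = c y
      rw [map_sum, Finset.sum_eq_single y (fun x _ hxy => by rw [map_mul, ha' x y hxy.symm, zero_mul])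
        (fun h => absurd (Finset.mem_univ y) h), map_mul, hb, mul_div_cancel₀ _ (ha y)]
  have : ∀ x, Module.Finite K (P.residueField x) := fun x =>
    Module.Finite.of_surjective ((LinearMap.proj x).comp L) (fun c => by
      obtain ⟨a, ha⟩ := hsur x c
      exact ⟨a, ha⟩)
  refine ((LinearEquiv.ofBijective L hL).finrank_eq).trans ?_
  rw [Module.finrank_pi_fintype]
  refine Finset.sum_congr rfl fun x _ => ?_
  let := (q.residueFieldMap x).hom.toAlgebra
  let S : Scheme.{u} := Spec (CommRingCat.of K)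
  let θ : K →+* S.residueField (q x) := (S.Γevaluation (q x)).hom.comp (Scheme.ΓSpecIso (CommRingCat.of K)).inv.hom
  have hθ : Function.Bijective θ := by
    refine ⟨θ.injective, ?_⟩
    show Function.Surjective ((S.Γevaluation (q x)).hom ∘ (Scheme.ΓSpecIso (CommRingCat.of K)).inv.hom)
    refine Function.Surjective.comp ?_ (Scheme.ΓSpecIso (CommRingCat.of K)).symm.commRingCatIsoToRingEquiv.surjective
    exact BddFibMore.gammaEval_surjective S (Scheme.ΓSpecIso _).inv
      (RingHom.Finite.of_surjective _ (Scheme.ΓSpecIso (CommRingCat.of K)).symm.commRingCatIsoToRingEquiv.surjective) (q x)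
  refine Algebra.finrank_eq_of_equiv_equiv (RingEquiv.ofBijective θ hθ) (RingEquiv.refl _) ?_
  ext c
  exact Scheme.Γevaluation_naturality_apply q x _

theorem residueDegree_comp {A B C : Scheme.{u}} (a : A ⟶ B) (b : B ⟶ C) (x : A) :
    EGA4loc.residueDegree (a ≫ b) x = EGA4loc.residueDegree b (a x) * EGA4loc.residueDegree a x := by
  unfold EGA4loc.residueDegree
  letI := (b.residueFieldMap (a x)).hom.toAlgebra
  letI := (a.residueFieldMap x).hom.toAlgebra
  letI : Algebra (C.residueField (b (a x))) (A.residueField x) := ((a ≫ b).residueFieldMap x).hom.toAlgebra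
  haveI : IsScalarTower (C.residueField (b (a x))) (B.residueField (a x)) (A.residueField x) :=
    IsScalarTower.of_algebraMap_eq' (by
      simp only [RingHom.algebraMap_toAlgebra]
      rw [Scheme.residueFieldMap_comp]
      rfl)
  exact (Module.finrank_mul_finrank (C.residueField (b (a x))) (B.residueField (a x)) (A.residueField x)).symm

theorem residueDegree_eq_one {A B : Scheme.{u}} (a : A ⟶ B) [IsPreimmersion a] (x : A) :
    EGA4loc.residueDegree a x = 1 := by
  unfold EGA4loc.residueDegree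
  letI := (a.residueFieldMap x).hom.toAlgebra
  have hs : Function.Surjective (a.residueFieldMap x).hom := by
    intro c
    obtain ⟨d, rfl⟩ := A.residue_surjective x c
    obtain ⟨e, rfl⟩ := SurjectiveOnStalks.surj_on_stalks (f := a) x d
    exact ⟨B.residue _ e, congrArg (fun k => k.hom e) (Scheme.residue_residueFieldMap a x)⟩
  exact ((AlgEquiv.ofBijective (Algebra.ofId (B.residueField (a x)) (A.residueField x))
    ⟨(a.residueFieldMap x).hom.injective, hs⟩).toLinearEquiv.finrank_eq).symm.trans (Module.finrank_self _)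

variable {X Y : Scheme.{u}} (f : X ⟶ Y)

theorem natCard_geomFibre [LocallyQuasiFinite f] [LocallyOfFiniteType f] [QuasiCompact f] {Ω : Type u} [Field Ω]
    [IsAlgClosed Ω] (v : Spec (CommRingCat.of Ω) ⟶ Y) :
    (Nat.card ↥(pullback f v) : ℤ) = MoreMor.fibreIntegral f (fun _ => 1) (Weighting.pt v) := by
  classical
  have hfib := f.finite_preimage_singleton (Weighting.pt v)
  rw [Weighting.fibreIntegral_eq f _ v hfib, finsum_mem_eq_finite_toFinset_sum _ (Weighting.finite_fib f v hfib),
    Finset.sum_const, nsmul_one, ← Nat.card_eq_card_finite_toFinset (Weighting.finite_fib f v hfib)]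
  congr 1
  let q := pullback.snd f v
  haveI : LocallyOfFiniteType q := inferInstanceAs (LocallyOfFiniteType (pullback.snd f v))
  haveI : IsLocallyArtinian (pullback f v) :=
    @IsLocallyArtinian.of_locallyQuasiFinite _ _ q inferInstance (inferInstanceAs (IsLocallyArtinian (Spec (CommRingCat.of Ω))))
  haveI : DiscreteTopology ↥(pullback f v) := inferInstance
  let e : ↥(Weighting.Fib f v) ≃ {p : Spec (CommRingCat.of Ω) ⟶ pullback f v // p ≫ q = 𝟙 _} :=
    { toFun := fun l => ⟨pullback.lift l.1 (𝟙 _) ((show l.1 ≫ f = v from l.2).trans (Category.id_comp v).symm), pullback.lift_snd _ _ _⟩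
      invFun := fun p => ⟨p.1 ≫ pullback.fst f v, by
        show (p.1 ≫ pullback.fst f v) ≫ f = v
        rw [Category.assoc, pullback.condition, ← Category.assoc, p.2, Category.id_comp]⟩
      left_inv := fun l => Subtype.ext (pullback.lift_fst _ _ _)
      right_inv := fun p => Subtype.ext (pullback.hom_ext (pullback.lift_fst _ _ _) ((pullback.lift_snd _ _ _).trans p.2.symm)) }
  refine (Nat.card_congr (e.trans ((pointEquivClosedPoint q).trans (Equiv.subtypeUnivEquiv fun x => ?_)))).symm
  exact isClosed_discrete _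

theorem finrank_genericFibre [LocallyQuasiFinite f] [LocallyOfFiniteType f] [QuasiCompact f] [IsReduced X]
    [IrreducibleSpace Y] (hred : IsReduced (pullback f (Y.fromSpecResidueField (genericPoint Y))))
    (hfin : (f ⁻¹' {genericPoint Y}).Finite) :
    letI := (((pullback.snd f (Y.fromSpecResidueField (genericPoint Y))).appTop).hom.comp
      (Scheme.ΓSpecIso (Y.residueField (genericPoint Y))).inv.hom).toAlgebra
    Module.finrank (Y.residueField (genericPoint Y)) Γ(pullback f (Y.fromSpecResidueField (genericPoint Y)), ⊤) =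
      ∑ x ∈ hfin.toFinset, EGA4loc.residueDegree f x := by
  classical
  let η := genericPoint Y
  let m := Y.fromSpecResidueField η
  let q := pullback.snd f m
  haveI : IsFinite q := inferInstanceAs (IsFinite (f.fiberToSpecResidueField η))
  haveI := hred
  refine (finrank_gamma_eq_sum (K := Y.residueField η) q).trans ?_
  let p := pullback.fst f m
  haveI : IsPreimmersion p := MorphismProperty.pullback_fst _ _ inferInstance
  have hp : ∀ z, f (p z) = η := fun z => by
    rw [← Scheme.Hom.comp_apply, pullback.condition, Scheme.Hom.comp_apply]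
    exact Y.fromSpecResidueField_apply η _
  have hdeg : ∀ z, EGA4loc.residueDegree q z = EGA4loc.residueDegree f (p z) := fun z => by
    have h1 := residueDegree_comp p f z
    have h2 := residueDegree_comp q m z
    rw [residueDegree_eq_one p, mul_one] at h1
    rw [residueDegree_eq_one m, one_mul] at h2
    rw [← h1, ← h2, show p ≫ f = q ≫ m from pullback.condition]
  rw [finsum_congr hdeg, ← finsum_mem_eq_finite_toFinset_sum _ hfin,
    ← finsum_mem_univ, ← finsum_mem_image (f := fun x => EGA4loc.residueDegree f x) p.isEmbedding.injective.injOn]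
  refine finsum_mem_congr ?_ fun _ _ => rfl
  ext x
  refine ⟨fun ⟨z, _, hz⟩ => hz ▸ hp z, fun hx => ?_⟩
  obtain ⟨z, hz⟩ : x ∈ Set.range p := by
    show x ∈ Set.range (f.fiberι η)
    rw [Scheme.Hom.range_fiberι]; exact hx
  exact ⟨z, trivial, hz⟩

theorem exists_integral_nhd [IrreducibleSpace Y] [IsLocallyNoetherian Y] (y : Y) [IsDomain (Y.presheaf.stalk y)] :
    ∃ V : Y.Opens, y ∈ V ∧ IsIntegral V.toScheme := by
  obtain ⟨V, hy, hV⟩ := GrpBasic.exists_isReduced_nhd y
  haveI := hV
  haveI : IrreducibleSpace V.toScheme := by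
    have : IsPreirreducible (V : Set Y) := (IrreducibleSpace.isIrreducible_univ Y).2.open_subset V.2 (Set.subset_univ _)
    exact Subtype.irreducibleSpace ⟨⟨y, hy⟩, this⟩
  exact ⟨V, hy, isIntegral_of_irreducibleSpace_of_isReduced _⟩

theorem card_main [IrreducibleSpace Y] [IsLocallyNoetherian Y] [IsReduced X] [IsSeparated f] [LocallyQuasiFinite f]
    [LocallyOfFiniteType f] [QuasiCompact f]
    (hdom : ∀ x : X, (∀ x' : X, x' ⤳ x → x' = x) → f x = genericPoint Y)
    (y : Y) [IsDomain (Y.presheaf.stalk y)] (hy : IsIntegrallyClosed (Y.presheaf.stalk y))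
    {Ω : Type u} [Field Ω] [IsAlgClosed Ω] (v : Spec (CommRingCat.of Ω) ⟶ Y) (hv : Weighting.pt v = y) :
    letI := (((pullback.snd f (Y.fromSpecResidueField (genericPoint Y))).appTop).hom.comp
      (Scheme.ΓSpecIso (Y.residueField (genericPoint Y))).inv.hom).toAlgebra
    letI n := Module.finrank (Y.residueField (genericPoint Y)) Γ(pullback f (Y.fromSpecResidueField (genericPoint Y)), ⊤)
    letI ny := Nat.card ↥(pullback f v)
    ny ≤ n ∧ (ny = n ↔ ∃ U : Y.Opens, y ∈ U ∧ IsFinite (f ∣_ U) ∧ Etale (f ∣_ U)) := by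
  classical
  obtain ⟨V, hyV, hVi⟩ := exists_integral_nhd y
  haveI := hVi
  let η := genericPoint Y
  have hηV : η ∈ V := (genericPoint_specializes y).mem_open V.2 hyV
  let g := f ∣_ V
  let ηV : V.toScheme := genericPoint V.toScheme
  have hη : V.ι ηV = η := genericPoint_eq_of_isOpenImmersion V.ι
  haveI : IsReduced (f ⁻¹ᵁ V).toScheme := isReduced_of_isOpenImmersion (f ⁻¹ᵁ V).ι
  -- the generic fibre is reduced
  have hred : IsReduced (pullback f (Y.fromSpecResidueField η)) := by
    haveI := SubGen.Spread.isReduced_generic g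
    have hsq : IsPullback (pullback.fst g (V.toScheme.fromSpecResidueField ηV) ≫ (f ⁻¹ᵁ V).ι)
        (pullback.snd g (V.toScheme.fromSpecResidueField ηV)) f (V.toScheme.fromSpecResidueField ηV ≫ V.ι) :=
      (IsPullback.of_hasPullback g _).paste_horiz (isPullback_morphismRestrict f V).flip
    let i : Spec (V.toScheme.residueField ηV) ⟶ Spec (Y.residueField η) :=
      Spec.map ((Y.residueFieldCongr hη.symm).hom ≫ V.ι.residueFieldMap ηV)
    have hi : i ≫ Y.fromSpecResidueField η = V.toScheme.fromSpecResidueField ηV ≫ V.ι := by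
      simp only [i, Spec.map_comp, Category.assoc, Scheme.residueFieldCongr_fromSpecResidueField,
        Scheme.Hom.SpecMap_residueFieldMap_fromSpecResidueField]
    haveI : IsIso i := inferInstance
    let e : pullback f (V.toScheme.fromSpecResidueField ηV ≫ V.ι) ⟶ pullback f (Y.fromSpecResidueField η) :=
      pullback.map _ _ _ _ (𝟙 _) i (𝟙 _) (by simp) (by rw [Category.comp_id, hi])
    haveI : IsIso e := inferInstanceAs (IsIso (pullback.map _ _ _ _ (𝟙 _) i (𝟙 _) _ _))
    exact isReduced_of_isOpenImmersion (inv e ≫ hsq.isoPullback.inv)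
  have hfinη : (f ⁻¹' {η}).Finite := f.finite_preimage_singleton η
  have hfy : (f ⁻¹' {y}).Finite := f.finite_preimage_singleton y
  rw [finrank_genericFibre f hred hfinη]
  -- transfer to `g`
  have hgfin : (g ⁻¹' {ηV}).Finite := g.finite_preimage_singleton _
  have hgy : (g ⁻¹' {(⟨y, hyV⟩ : V.toScheme)}).Finite := g.finite_preimage_singleton _
  have hιg : ∀ u, V.ι (g u) = f ((f ⁻¹ᵁ V).ι u) := fun u => by
    rw [← Scheme.Hom.comp_apply, morphismRestrict_ι]; rfl
  have himg : ∀ w : V.toScheme, (f ⁻¹ᵁ V).ι '' (g ⁻¹' {w}) = f ⁻¹' {V.ι w} := fun w => by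
    ext x
    constructor
    · rintro ⟨u, hu, rfl⟩
      show f _ = _
      rw [← hιg, hu]
    · intro (hx : f x = V.ι w)
      refine ⟨⟨x, show f x ∈ V from hx ▸ w.2⟩, V.ι.isOpenEmbedding.injective ?_, rfl⟩
      rw [hιg]; exact hx
  have hsep : ∀ u, EGA4loc.residueSepDegree g u = EGA4loc.residueSepDegree f ((f ⁻¹ᵁ V).ι u) := fun u => by
    rw [← residueSepDegree_comp_left g V.ι, ← residueSepDegree_comp f (f ⁻¹ᵁ V).ι, morphismRestrict_ι]
  have hdeg : ∀ u, EGA4loc.residueDegree g u = EGA4loc.residueDegree f ((f ⁻¹ᵁ V).ι u) := fun u => by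
    have h1 := residueDegree_comp g V.ι u
    rw [residueDegree_eq_one V.ι, one_mul, morphismRestrict_ι, residueDegree_comp_open] at h1
    exact h1.symm
  have hsum : (∑ x ∈ hfinη.toFinset, EGA4loc.residueDegree f x) = ∑ u ∈ hgfin.toFinset, EGA4loc.residueDegree g u := by
    rw [← finsum_mem_eq_finite_toFinset_sum _ hfinη, ← finsum_mem_eq_finite_toFinset_sum _ hgfin, ← hη, ← himg,
      finsum_mem_image (f ⁻¹ᵁ V).ι.isOpenEmbedding.injective.injOn]
    exact finsum_mem_congr rfl fun u _ => (hdeg u).symm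
  have hS : {u | g u = (⟨y, hyV⟩ : V.toScheme) ∧ g.QuasiFiniteAt u} = g ⁻¹' {(⟨y, hyV⟩ : V.toScheme)} := by
    ext u
    exact ⟨fun h => h.1, fun h => ⟨h, g.quasiFiniteAt u⟩⟩
  have hny : Nat.card ↥(pullback f v) = ∑ᶠ u ∈ {u | g u = (⟨y, hyV⟩ : V.toScheme) ∧ g.QuasiFiniteAt u}, EGA4loc.residueSepDegree g u := by
    have h1 := natCard_geomFibre f v
    rw [hv] at h1
    have h2 : MoreMor.fibreIntegral f (fun _ => 1) y = ∑ᶠ x ∈ f ⁻¹' {y}, (EGA4loc.residueSepDegree f x : ℤ) := by
      have := fibreIntegral_comp f (𝟙 X) y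
      rw [Category.id_comp] at this
      rw [this]
      refine finsum_mem_congr ?_ fun _ _ => rfl
      rw [show Set.range (𝟙 X : X ⟶ X) = Set.univ from Set.eq_univ_of_forall fun x => ⟨x, rfl⟩, Set.univ_inter]
    rw [h2, finsum_mem_eq_finite_toFinset_sum _ hfy, ← Nat.cast_sum, Nat.cast_inj,
      ← finsum_mem_eq_finite_toFinset_sum _ hfy, show f ⁻¹' {y} = f ⁻¹' {V.ι ⟨y, hyV⟩} from rfl, ← himg,
      finsum_mem_image (f ⁻¹ᵁ V).ι.isOpenEmbedding.injective.injOn] at h1
    rw [h1, hS]
    exact finsum_mem_congr rfl fun u _ => (hsep u).symm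
  have hdomg : ∀ Z ∈ irreducibleComponents ↥(f ⁻¹ᵁ V).toScheme, ηV ∈ g '' Z := by
    intro Z hZ
    obtain ⟨ζ, hζ⟩ : ∃ ζ, IsGenericPoint ζ Z := QuasiSober.sober hZ.1 (isClosed_of_mem_irreducibleComponents _ hZ)
    refine ⟨ζ, hζ.mem, V.ι.isOpenEmbedding.injective ?_⟩
    rw [hη, hιg]
    refine hdom _ fun x' hx' => ?_
    have hx'V : x' ∈ f ⁻¹ᵁ V := hx'.mem_open (f ⁻¹ᵁ V).2 ζ.2
    have hs : (⟨x', hx'V⟩ : (f ⁻¹ᵁ V).toScheme) ⤳ ζ := (f ⁻¹ᵁ V).ι.isOpenEmbedding.isInducing.specializes_iff.1 hx'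
    have hle : Z ≤ closure {(⟨x', hx'V⟩ : (f ⁻¹ᵁ V).toScheme)} := fun z hz => (hs.trans (hζ.specializes hz)).mem_closure
    have heq := hZ.2 isIrreducible_singleton.closure hle
    have h' : ζ ⤳ ⟨x', hx'V⟩ := hζ.specializes (heq (subset_closure rfl))
    exact congrArg (f ⁻¹ᵁ V).ι (hs.antisymm h').eq
  have hyn : IsIntegrallyClosed (V.toScheme.presheaf.stalk ⟨y, hyV⟩) :=
    by
    haveI : IsIntegrallyClosed (Y.presheaf.stalk (V.ι ⟨y, hyV⟩)) := hy
    exact IsIntegrallyClosed.of_equiv ((asIso (V.ι.stalkMap ⟨y, hyV⟩)).commRingCatIsoToRingEquiv)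
  obtain ⟨hfinS, hle1, hle2⟩ := main g hdomg hgfin (Groth.Agent.S9812.result (V.toScheme.presheaf.stalk ⟨y, hyV⟩))
  rw [hny, hsum]
  refine ⟨hle1.trans hle2, fun heq => ?_, fun ⟨U, hyU, hUf, hUe⟩ => ?_⟩
  · obtain ⟨U, hyU, hUf, hUe⟩ := exists_finiteEtale g hdomg hgfin ⟨y, hyV⟩ hyn hfinS heq
    exact ⟨V.ι ''ᵁ U, ⟨_, hyU, rfl⟩,
      (MorphismProperty.arrow_mk_iso_iff (@IsFinite : MorphismProperty Scheme.{u}) (morphismRestrictRestrict f V U)).1 hUf,
      (MorphismProperty.arrow_mk_iso_iff (@Etale : MorphismProperty Scheme.{u}) (morphismRestrictRestrict f V U)).1 hUe⟩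
  · haveI := hUf
    haveI := hUe
    let U' : V.toScheme.Opens := V.ι ⁻¹ᵁ U
    have e1 : Arrow.mk (g ∣_ U') ≅ Arrow.mk ((f ∣_ U) ∣_ (U.ι ⁻¹ᵁ V)) := by
      refine morphismRestrictRestrict f V U' ≪≫ morphismRestrictEq f ?_ ≪≫ (morphismRestrictRestrict f U (U.ι ⁻¹ᵁ V)).symm
      simp only [U', Scheme.Hom.image_preimage_eq_opensRange_inf, Scheme.Opens.opensRange_ι, inf_comm]
    haveI : IsFinite (g ∣_ U') := (MorphismProperty.arrow_mk_iso_iff (@IsFinite : MorphismProperty Scheme.{u}) e1).2 inferInstance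
    haveI : Etale (g ∣_ U') := (MorphismProperty.arrow_mk_iso_iff (@Etale : MorphismProperty Scheme.{u}) e1).2 inferInstance
    exact (sum_eq_of_finiteEtale g hgfin _ U' hyU).2

end Groth.Agent.SepDegree
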