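import Groth.Agent.SepDegree.Degree
import Groth.Prelude.Def_CurvBase

/-! Separable residue degrees over a field. -/

set_option autoImplicit false
set_option linter.style.haveILetI false
set_option backward.isDefEq.respectTransparency false
universe u
open CategoryTheory AlgebraicGeometry

namespace Groth.Agent.SepDegree

theorem residueSepDegree_over_field (k : Type u) [Field k] {S' : Scheme.{u}} [S'.Over (Spec (CommRingCat.of k))]
    (q : S' ⟶ Spec (CommRingCat.of k)) [IsFinite q] (x : S') (hq : q = S' ↘ Spec (CommRingCat.of k) := by rfl) :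
    EGA4loc.residueSepDegree q x = (letI := Curv2.resAlgebra k S' x; Field.finSepDegree k (S'.residueField x)) := by
  subst hq
  unfold EGA4loc.residueSepDegree
  let q := S' ↘ Spec (CommRingCat.of k)
  let S : Scheme.{u} := Spec (CommRingCat.of k)
  let θ : k →+* S.residueField (q x) := (S.Γevaluation (q x)).hom.comp (Scheme.ΓSpecIso (CommRingCat.of k)).inv.hom
  have hθ : Function.Surjective θ := by
    show Function.Surjective ((S.Γevaluation (q x)).hom ∘ (Scheme.ΓSpecIso (CommRingCat.of k)).inv.hom)
    refine Function.Surjective.comp ?_ (Scheme.ΓSpecIso (CommRingCat.of k)).symm.commRingCatIsoToRingEquiv.surjective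
    exact BddFibMore.gammaEval_surjective S (Scheme.ΓSpecIso _).inv
      (RingHom.Finite.of_surjective _ (Scheme.ΓSpecIso (CommRingCat.of k)).symm.commRingCatIsoToRingEquiv.surjective) (q x)
  letI := (q.residueFieldMap x).hom.toAlgebra
  letI := Curv2.resAlgebra k S' x
  letI : Algebra k (S.residueField (q x)) := θ.toAlgebra
  haveI : IsScalarTower k (S.residueField (q x)) (S'.residueField x) := IsScalarTower.of_algebraMap_eq fun a =>
    (Scheme.Γevaluation_naturality_apply q x _).symm
  haveI : Algebra.IsAlgebraic k (S.residueField (q x)) :=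
    ⟨fun a => by obtain ⟨b, rfl⟩ := hθ a; exact isAlgebraic_algebraMap b⟩
  haveI : Module.Finite (S.residueField (q x)) (S'.residueField x) := finite_residueField q (q.quasiFiniteAt x)
  have h := Field.finSepDegree_mul_finSepDegree_of_isAlgebraic k (S.residueField (q x)) (S'.residueField x)
  have h1 : Field.finSepDegree k (S.residueField (q x)) = 1 := by
    rw [← Field.finSepDegree_eq_of_equiv _ _ _ (AlgEquiv.ofBijective (Algebra.ofId k (S.residueField (q x))) ⟨θ.injective, hθ⟩),
      Field.finSepDegree_self]
  rw [h1, one_mul] at h
  exact h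

end Groth.Agent.SepDegree
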