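import Groth.Agent.SepDegree.EtCrit

/-! An integral extension with enough geometric points is finite étale nearby. -/

set_option autoImplicit false
set_option linter.style.haveILetI false
set_option backward.isDefEq.respectTransparency false
universe u
open CategoryTheory CategoryTheory.Limits AlgebraicGeometry TopologicalSpace

namespace Groth.Agent.SepDegree

theorem residueDegree_generic (A B : Type u) [CommRing A] [IsDomain A] [CommRing B] [IsDomain B] [Algebra A B]
    (K L : Type u) [Field K] [Algebra A K] [IsFractionRing A K] [Field L] [Algebra B L] [IsFractionRing B L]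
    [Algebra K L] [Algebra A L] [IsScalarTower A K L] [IsScalarTower A B L] (q : Spec (CommRingCat.of B))
    (hq : q = genericPoint (Spec (CommRingCat.of B)))
    (hfq : Spec.map (CommRingCat.ofHom (algebraMap A B)) q = genericPoint (Spec (CommRingCat.of A))) :
    EGA4loc.residueDegree (Spec.map (CommRingCat.ofHom (algebraMap A B))) q = Module.finrank K L := by
  let f := Spec.map (CommRingCat.ofHom (algebraMap A B))
  have key : ∀ (C : Type u) [CommRing C] [IsDomain C] (x : Spec (CommRingCat.of C)),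
      x = genericPoint (Spec (CommRingCat.of C)) →
      letI := (((Spec (CommRingCat.of C)).Γevaluation x).hom.comp (Scheme.ΓSpecIso (CommRingCat.of C)).inv.hom).toAlgebra
      IsFractionRing C ((Spec (CommRingCat.of C)).residueField x) := by
    intro C _ _ x hx
    let S := Spec (CommRingCat.of C)
    let e := (Scheme.ΓSpecIso (CommRingCat.of C)).symm.commRingCatIsoToRingEquiv
    letI := ((S.Γevaluation x).hom.comp (Scheme.ΓSpecIso (CommRingCat.of C)).inv.hom).toAlgebra
    have hU := isAffineOpen_top S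
    haveI : IsDomain Γ(S, ⊤) := e.symm.toMulEquiv.isDomain _
    haveI : FaithfulSMul C (S.residueField x) := by
      rw [faithfulSMul_iff_algebraMap_injective]
      refine Function.Injective.comp (g := (S.Γevaluation x).hom) ?_ e.injective
      show Function.Injective (S.evaluation ⊤ x trivial).hom
      rw [RingHom.injective_iff_ker_eq_bot, UnibranchEtale.ker_evaluation hU]
      refine le_bot_iff.1 fun a ha => (Ideal.mem_bot).2 (IsNilpotent.eq_zero (nilpotent_iff_mem_prime.2 fun P hP => ?_))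
      obtain ⟨z, hz, hzP⟩ := UnibranchEtale.exists_primeIdealOf_eq hU P
      rw [← hzP]
      refine (?_ : (hU.primeIdealOf ⟨x, trivial⟩).asIdeal ≤ (hU.primeIdealOf ⟨z, hz⟩).asIdeal) ha
      rw [PrimeSpectrum.asIdeal_le_asIdeal, PrimeSpectrum.le_iff_specializes]
      refine hU.fromSpec.isOpenEmbedding.isInducing.specializes_iff.1 ?_
      rw [hU.fromSpec_primeIdealOf, hU.fromSpec_primeIdealOf, hx]
      exact genericPoint_specializes z
    refine IsFractionRing.of_field C _ fun z => ?_
    obtain ⟨a, s, hs, h⟩ := UnibranchEtale.exists_evaluation_div hU x trivial z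
    have hne : (S.evaluation ⊤ x trivial).hom s ≠ 0 := fun hh => hs (by
      rw [← UnibranchEtale.ker_evaluation hU]; exact hh)
    refine ⟨e.symm a, e.symm s, ?_⟩
    show z = (S.evaluation ⊤ x trivial).hom (e (e.symm a)) / (S.evaluation ⊤ x trivial).hom (e (e.symm s))
    rw [e.apply_symm_apply, e.apply_symm_apply, eq_div_iff hne, mul_comm]
    exact h
  unfold EGA4loc.residueDegree
  letI := (f.residueFieldMap q).hom.toAlgebra
  letI : Algebra A ((Spec (CommRingCat.of A)).residueField (f q)) :=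
    (((Spec (CommRingCat.of A)).Γevaluation (f q)).hom.comp (Scheme.ΓSpecIso (CommRingCat.of A)).inv.hom).toAlgebra
  letI : Algebra B ((Spec (CommRingCat.of B)).residueField q) :=
    (((Spec (CommRingCat.of B)).Γevaluation q).hom.comp (Scheme.ΓSpecIso (CommRingCat.of B)).inv.hom).toAlgebra
  haveI := key A (f q) hfq
  haveI := key B q hq
  let eA := (IsLocalization.algEquiv (nonZeroDivisors A) ((Spec (CommRingCat.of A)).residueField (f q)) K).toRingEquiv
  let eB := (IsLocalization.algEquiv (nonZeroDivisors B) ((Spec (CommRingCat.of B)).residueField q) L).toRingEquiv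
  refine Algebra.finrank_eq_of_equiv_equiv eA eB (IsLocalization.ringHom_ext (nonZeroDivisors A) (RingHom.ext fun a => ?_))
  show algebraMap K L (eA (algebraMap A _ a)) = eB ((f.residueFieldMap q).hom (algebraMap A _ a))
  have h1 : (f.residueFieldMap q).hom (algebraMap A _ a) = algebraMap B ((Spec (CommRingCat.of B)).residueField q) (algebraMap A B a) := by
    show f.residueFieldMap q ((Spec (CommRingCat.of A)).Γevaluation (f q) ((Scheme.ΓSpecIso (CommRingCat.of A)).inv a)) = _
    rw [Scheme.Γevaluation_naturality_apply]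
    exact congrArg ((Spec (CommRingCat.of B)).Γevaluation q)
      (congrArg (fun k => k.hom a) (Scheme.ΓSpecIso_inv_naturality (CommRingCat.ofHom (algebraMap A B)))).symm
  rw [h1]
  show algebraMap K L ((IsLocalization.algEquiv (nonZeroDivisors A) _ K) (algebraMap A _ a)) =
    (IsLocalization.algEquiv (nonZeroDivisors B) _ L) (algebraMap B _ (algebraMap A B a))
  rw [AlgEquiv.commutes, AlgEquiv.commutes, ← IsScalarTower.algebraMap_apply, ← IsScalarTower.algebraMap_apply]

set_option maxHeartbeats 1000000 in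
/-- An integral extension inside a finite field extension, with as many geometric points over a normal point
as the degree, is finite étale near the point. -/
theorem exists_basicOpen_finiteEtale (A R : Type u) [CommRing A] [IsDomain A] [CommRing R] [Algebra A R]
    [Algebra.IsIntegral A R]
    (hA : ∀ (p : Ideal A) [p.IsPrime], IsIntegrallyClosed (Localization.AtPrime p))
    (K L : Type u) [Field K] [Algebra A K] [IsFractionRing A K] [Field L] [Algebra K L] [FiniteDimensional K L]
    [Algebra A L] [IsScalarTower A K L] (ψ : R →ₐ[A] L) (hψ : Function.Injective ψ)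
    (hgen : ∀ l : L, ∃ r s : R, ψ s ≠ 0 ∧ l * ψ s = ψ r)
    (Ω : Type u) [Field Ω] [IsAlgClosed Ω] (ξ₀ : A →+* Ω)
    (χ : Fin (Module.finrank K L) ↪ {c : R →+* Ω // c.comp (algebraMap A R) = ξ₀}) :
    ∃ g : A, ξ₀ g ≠ 0 ∧
      IsFinite (Spec.map (CommRingCat.ofHom (algebraMap A R)) ∣_ PrimeSpectrum.basicOpen g) ∧
      Etale (Spec.map (CommRingCat.ofHom (algebraMap A R)) ∣_ PrimeSpectrum.basicOpen g) := by
  classical
  let n := Module.finrank K L
  -- separators
  have hsepr : ∀ ij : Fin n × Fin n, ∃ r : R, ij.1 ≠ ij.2 → (χ ij.1).1 r ≠ (χ ij.2).1 r := fun ij => by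
    by_cases h : ij.1 = ij.2
    · exact ⟨0, fun h' => (h' h).elim⟩
    · obtain ⟨r, hr⟩ : ∃ r, (χ ij.1).1 r ≠ (χ ij.2).1 r := by
        by_contra hh
        push Not at hh
        exact h (χ.injective (Subtype.ext (RingHom.ext hh)))
      exact ⟨r, fun _ => hr⟩
  choose sep hsep using hsepr
  let bas := Module.finBasis K L
  choose num den hden hnd using fun i => hgen (bas i)
  let s : Set R := Set.range sep ∪ Set.range num ∪ Set.range den
  have hsfin : s.Finite := ((Set.finite_range _).union (Set.finite_range _)).union (Set.finite_range _)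
  let B₁ := Algebra.adjoin A s
  have hB₁fin : Module.Finite A B₁ :=
    ⟨(Submodule.fg_top _).2 (fg_adjoin_of_finite hsfin fun x _ => Algebra.IsIntegral.isIntegral x)⟩
  haveI := hB₁fin
  haveI : IsDomain R := hψ.isDomain ψ.toRingHom
  let ψ₁ : B₁ →ₐ[A] L := ψ.comp B₁.val
  have hψ₁ : Function.Injective ψ₁ := hψ.comp Subtype.val_injective
  haveI : IsDomain B₁ := hψ₁.isDomain ψ₁.toRingHom
  letI : Algebra B₁ L := ψ₁.toRingHom.toAlgebra
  haveI : IsScalarTower A B₁ L := IsScalarTower.of_algebraMap_eq fun a => (ψ₁.commutes a).symm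
  have hAL : Function.Injective (algebraMap A L) := by
    rw [IsScalarTower.algebraMap_eq A K L]
    exact (algebraMap K L).injective.comp (IsFractionRing.injective A K)
  have hAB : Function.Injective (algebraMap A B₁) := fun a b h => hAL (by
    rw [IsScalarTower.algebraMap_apply A B₁ L, IsScalarTower.algebraMap_apply A B₁ L, h])
  haveI : IsFractionRing B₁ L := by
    haveI : FaithfulSMul B₁ L := (faithfulSMul_iff_algebraMap_injective B₁ L).2 hψ₁
    refine IsFractionRing.of_field B₁ L fun l => ?_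
    let F : Subfield L := Subfield.closure (Set.range ψ₁)
    have hmem : ∀ b : B₁, ψ₁ b ∈ F := fun b => Subfield.subset_closure ⟨b, rfl⟩
    have hl : l ∈ F := by
      rw [← bas.sum_repr l]
      refine sum_mem fun i _ => ?_
      rw [Algebra.smul_def]
      refine mul_mem ?_ ?_
      · obtain ⟨a, b, hb, h⟩ := IsFractionRing.div_surjective (A := A) (bas.repr l i)
        rw [← h, map_div₀, ← IsScalarTower.algebraMap_apply, ← IsScalarTower.algebraMap_apply,
          IsScalarTower.algebraMap_apply A B₁ L, IsScalarTower.algebraMap_apply A B₁ L]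
        exact div_mem (hmem _) (hmem _)
      · rw [show bas i = ψ (num i) / ψ (den i) by rw [eq_div_iff (hden i)]; exact hnd i]
        exact div_mem (hmem ⟨num i, Algebra.subset_adjoin (Or.inl (Or.inr ⟨i, rfl⟩))⟩)
          (hmem ⟨den i, Algebra.subset_adjoin (Or.inr ⟨i, rfl⟩)⟩)
    obtain ⟨y, hy, z, hz, hyz⟩ := Subfield.mem_closure_iff.1 hl
    have hrange : Subring.closure (Set.range ψ₁) = ψ₁.toRingHom.range := by
      rw [← Subring.closure_eq ψ₁.toRingHom.range]; rfl
    rw [hrange] at hy hz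
    obtain ⟨a, rfl⟩ := hy
    obtain ⟨b, rfl⟩ := hz
    exact ⟨a, b, hyz.symm⟩
  -- the finite model
  let S₀ := Spec (CommRingCat.of A)
  let Z₁ := Spec (CommRingCat.of B₁)
  let f : Z₁ ⟶ S₀ := Spec.map (CommRingCat.ofHom (algebraMap A B₁))
  haveI : IsFinite f := (IsFinite.SpecMap_iff _).2 (by exact RingHom.finite_algebraMap.2 hB₁fin)
  have hgenA : ∀ x : S₀, (x : PrimeSpectrum A).asIdeal = ⊥ → x = genericPoint S₀ := fun x hx => by
    rw [genericPoint_eq_bot_of_affine (CommRingCat.of A)]
    exact PrimeSpectrum.ext hx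
  have hfgen : f (genericPoint Z₁) = genericPoint S₀ := by
    refine hgenA _ ?_
    rw [genericPoint_eq_bot_of_affine (CommRingCat.of B₁)]
    show Ideal.comap (algebraMap A B₁) ⊥ = ⊥
    exact le_bot_iff.1 fun a ha => (Ideal.mem_bot).2 (hAB ((Ideal.mem_bot.1 ha).trans (map_zero _).symm))
  have hfib : ∀ z : Z₁, f z = genericPoint S₀ → z = genericPoint Z₁ := fun z hz => by
    rw [genericPoint_eq_bot_of_affine (CommRingCat.of B₁)]
    refine PrimeSpectrum.ext (Ideal.eq_bot_of_comap_eq_bot (R := A) ?_)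
    have := congrArg (fun x : S₀ => (x : PrimeSpectrum A).asIdeal) hz
    rw [genericPoint_eq_bot_of_affine (CommRingCat.of A)] at this
    exact this
  have hfin : (f ⁻¹' {genericPoint S₀}).Finite := f.finite_preimage_singleton _
  have hdom : ∀ Z ∈ irreducibleComponents ↥Z₁, genericPoint S₀ ∈ f '' Z := by
    intro Z hZ
    rw [irreducibleComponents_eq_singleton, Set.mem_singleton_iff] at hZ
    exact ⟨_, hZ ▸ trivial, hfgen⟩
  have hdeg : ∑ x ∈ hfin.toFinset, EGA4loc.residueDegree f x = n := by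
    rw [show hfin.toFinset = {genericPoint Z₁} from Finset.ext fun z => by
      simp only [Set.Finite.mem_toFinset, Set.mem_preimage, Set.mem_singleton_iff, Finset.mem_singleton]
      exact ⟨hfib z, fun h => h ▸ hfgen⟩, Finset.sum_singleton]
    exact residueDegree_generic A B₁ K L _ rfl hfgen
  -- the point
  let v : Spec (CommRingCat.of Ω) ⟶ S₀ := Spec.map (CommRingCat.ofHom ξ₀)
  let y := Weighting.pt v
  have hyn : IsIntegrallyClosed (S₀.presheaf.stalk y) := by
    haveI := hA (show PrimeSpectrum A from y).asIdeal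
    exact IsIntegrallyClosed.of_equiv (Spec.stalkIso (CommRingCat.of A) y).symm.commRingCatIsoToRingEquiv
  obtain ⟨hS, hle1, hle2⟩ := main f hdom hfin (Groth.Agent.S9812.result (S₀.presheaf.stalk y))
  let l : Fin n → Weighting.Fib f v := fun i => ⟨Spec.map (CommRingCat.ofHom ((χ i).1.comp B₁.val.toRingHom)), by
    show Spec.map _ ≫ f = v
    rw [← Spec.map_comp]
    congr 1
    ext a
    exact DFunLike.congr_fun (χ i).2 a⟩
  have hl : Function.Injective l := fun i j h => by
    by_contra hij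
    have h' := Spec.map_injective (congrArg Subtype.val h)
    exact hsep (i, j) hij (congrArg (fun k => k.hom ⟨sep (i, j), Algebra.subset_adjoin (Or.inl (Or.inl ⟨_, rfl⟩))⟩) h')
  have hfy : (f ⁻¹' {y}).Finite := f.finite_preimage_singleton y
  have hSy : {x : Z₁ | f x = y ∧ f.QuasiFiniteAt x} = f ⁻¹' {y} := by
    ext x
    exact ⟨fun h => h.1, fun h => ⟨h, f.quasiFiniteAt x⟩⟩
  have hcount : n ≤ ∑ᶠ x ∈ {x : Z₁ | f x = y ∧ f.QuasiFiniteAt x}, EGA4loc.residueSepDegree f x := by
    have h1 : MoreMor.fibreIntegral f (fun _ => 1) y = ∑ᶠ x ∈ f ⁻¹' {y}, (EGA4loc.residueSepDegree f x : ℤ) := by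
      have := fibreIntegral_comp f (𝟙 Z₁) y
      rw [Category.id_comp] at this
      rw [this]
      refine finsum_mem_congr ?_ fun _ _ => rfl
      rw [show Set.range (𝟙 Z₁ : Z₁ ⟶ Z₁) = Set.univ from Set.eq_univ_of_forall fun x => ⟨x, rfl⟩, Set.univ_inter]
    rw [Weighting.fibreIntegral_eq f _ v hfy, finsum_mem_eq_finite_toFinset_sum _ (Weighting.finite_fib f v hfy),
      Finset.sum_const, nsmul_one, finsum_mem_eq_finite_toFinset_sum _ hfy, ← Nat.cast_sum, Nat.cast_inj] at h1
    rw [hSy, finsum_mem_eq_finite_toFinset_sum _ hfy, ← h1, ← Nat.card_eq_card_finite_toFinset (Weighting.finite_fib f v hfy)]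
    haveI := (Weighting.finite_fib f v hfy).to_subtype
    simpa using Nat.card_le_card_of_injective l hl
  obtain ⟨U, hyU, hUf, hUe⟩ := exists_finiteEtale f hdom hfin y hyn hS (by
    rw [hdeg] at hle2 ⊢
    omega)
  obtain ⟨_, ⟨_, ⟨g, rfl⟩, rfl⟩, hyg, hgU⟩ := PrimeSpectrum.isBasis_basic_opens.exists_subset_of_mem_open hyU U.2
  let D : S₀.Opens := PrimeSpectrum.basicOpen g
  have hDU : D ≤ U := hgU
  have he : Arrow.mk ((f ∣_ U) ∣_ (U.ι ⁻¹ᵁ D)) ≅ Arrow.mk (f ∣_ D) :=
    morphismRestrictRestrict f U (U.ι ⁻¹ᵁ D) ≪≫ morphismRestrictEq f (by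
      rw [Scheme.Hom.image_preimage_eq_opensRange_inf, Scheme.Opens.opensRange_ι]; exact inf_eq_right.2 hDU)
  haveI : IsFinite (f ∣_ D) := (MorphismProperty.arrow_mk_iso_iff (@IsFinite : MorphismProperty Scheme.{u}) he).1 inferInstance
  haveI : Etale (f ∣_ D) := (MorphismProperty.arrow_mk_iso_iff (@Etale : MorphismProperty Scheme.{u}) he).1 inferInstance
  refine ⟨g, fun h => hyg ?_, ?_⟩
  · exact (show ξ₀ g ∈ IsLocalRing.maximalIdeal Ω by rw [IsLocalRing.maximalIdeal_eq_bot]; exact h)
  -- `R` and `B₁` agree over `D`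
  let g₁ : B₁ := algebraMap A B₁ g
  have hden' : ∀ r : R, ∃ (m : ℕ) (b : B₁), (algebraMap A R g) ^ m * r = (b : R) := by
    intro r
    let J : Ideal B₁ :=
      { carrier := {b | ∃ b' : B₁, (b : R) * r = b'}
        zero_mem' := ⟨0, by simp⟩
        add_mem' := fun {x y} ⟨x', hx⟩ ⟨y', hy⟩ => ⟨x' + y', by push_cast; rw [add_mul, hx, hy]⟩
        smul_mem' := fun c x ⟨x', hx⟩ => ⟨c * x', by rw [smul_eq_mul]; push_cast; rw [mul_assoc, hx]⟩ }
    have hJ : g₁ ∈ J.radical := by
      rw [Ideal.radical_eq_sInf]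
      refine Ideal.mem_sInf.2 fun {P} hP => ?_
      obtain ⟨hJP, hPp⟩ := hP
      by_contra hgP
      let z : Z₁ := (⟨P, hPp⟩ : PrimeSpectrum B₁)
      have hzD : z ∈ f ⁻¹ᵁ D := hgP
      haveI : Etale ((f ⁻¹ᵁ D).ι ≫ f) := by rw [← morphismRestrict_ι]; infer_instance
      have hst := isNormal_stalk_of_etale ((f ⁻¹ᵁ D).ι ≫ f) ⟨z, hzD⟩ ⟨inferInstance, by
        haveI := hA (show PrimeSpectrum A from f z).asIdeal
        exact IsIntegrallyClosed.of_equiv (Spec.stalkIso (CommRingCat.of A) (f z)).symm.commRingCatIsoToRingEquiv⟩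
      haveI := hst.2
      haveI : IsIntegrallyClosed (Z₁.presheaf.stalk z) :=
        IsIntegrallyClosed.of_equiv ((asIso ((f ⁻¹ᵁ D).ι.stalkMap ⟨z, hzD⟩)).commRingCatIsoToRingEquiv).symm
      haveI hO : IsIntegrallyClosed (Localization.AtPrime P) :=
        IsIntegrallyClosed.of_equiv (Spec.stalkIso (CommRingCat.of B₁) z).commRingCatIsoToRingEquiv
      let O := Localization.AtPrime P
      haveI : IsDomain O := IsLocalization.isDomain_of_atPrime O P
      letI : Algebra O L := (IsLocalization.lift (M := P.primeCompl) (g := algebraMap B₁ L) (fun t => by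
        refine IsUnit.mk0 _ fun h => t.2 ?_
        rw [show (t : B₁) = 0 from hψ₁ (h.trans (map_zero ψ₁).symm)]
        exact zero_mem _)).toAlgebra
      haveI : IsScalarTower B₁ O L := IsScalarTower.of_algebraMap_eq fun b =>
        (IsLocalization.lift_eq _ b).symm
      haveI : IsFractionRing O L := IsFractionRing.isFractionRing_of_isDomain_of_isLocalization P.primeCompl O L
      have hint : IsIntegral O (ψ r) := ((Algebra.IsIntegral.isIntegral (R := A) r).map ψ).tower_top (A := B₁) |>.tower_top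
      obtain ⟨o, ho⟩ := (isIntegrallyClosed_iff L).1 hO hint
      obtain ⟨⟨b, t⟩, ht⟩ := IsLocalization.surj P.primeCompl o
      refine t.2 (hJP ⟨b, hψ ?_⟩)
      have := congrArg (algebraMap O L) ht
      rw [map_mul, ho, ← IsScalarTower.algebraMap_apply, ← IsScalarTower.algebraMap_apply] at this
      rw [map_mul, mul_comm]
      exact this
    obtain ⟨m, b', hb'⟩ := hJ
    exact ⟨m, b', by rw [← hb']; rfl⟩
  let π : Spec (CommRingCat.of R) ⟶ Z₁ := Spec.map (CommRingCat.ofHom B₁.val.toRingHom)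
  let γ : Γ(Z₁, ⊤) := (Scheme.ΓSpecIso (CommRingCat.of B₁)).inv g₁
  have hnat : ∀ b, π.appTop.hom ((Scheme.ΓSpecIso (CommRingCat.of B₁)).inv b) =
      (Scheme.ΓSpecIso (CommRingCat.of R)).inv (b : R) := fun b =>
    (congrArg (fun k => k.hom b) (Scheme.ΓSpecIso_inv_naturality (CommRingCat.ofHom B₁.val.toRingHom))).symm
  let eB := (Scheme.ΓSpecIso (CommRingCat.of B₁)).symm.commRingCatIsoToRingEquiv
  let eR := (Scheme.ΓSpecIso (CommRingCat.of R)).symm.commRingCatIsoToRingEquiv
  haveI hπ : IsIso (π ∣_ Z₁.basicOpen γ) := by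
    refine isIso_restrict_basicOpen π γ (fun a b h => ?_) fun b => ?_
    · obtain ⟨a, rfl⟩ := eB.surjective a
      obtain ⟨b, rfl⟩ := eB.surjective b
      exact congrArg eB (Subtype.ext (eR.injective ((hnat a).symm.trans (h.trans (hnat b)))))
    · obtain ⟨r, rfl⟩ := eR.surjective b
      obtain ⟨m, b', hb'⟩ := hden' r
      refine ⟨m, eB b', ?_⟩
      show π.appTop.hom γ ^ m * eR r = π.appTop.hom (eB b')
      rw [show π.appTop.hom (eB b') = eR (b' : R) from hnat b', ← hb', map_mul, map_pow,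
        show π.appTop.hom γ = eR (algebraMap A R g) from hnat g₁]
  have hpre : f ⁻¹ᵁ D = Z₁.basicOpen γ :=
    (TopologicalSpace.Opens.ext rfl : f ⁻¹ᵁ D = PrimeSpectrum.basicOpen g₁).trans (basicOpen_eq_of_affine (R := CommRingCat.of B₁) g₁).symm
  haveI : IsIso (π ∣_ f ⁻¹ᵁ D) := by rw [hpre]; exact hπ
  have hcomp : Spec.map (CommRingCat.ofHom (algebraMap A R)) = π ≫ f := by
    rw [← Spec.map_comp]; rfl
  rw [hcomp, morphismRestrict_comp]
  exact ⟨inferInstance, inferInstance⟩

end Groth.Agent.SepDegree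

namespace Groth.Agent.SepDegree

set_option maxHeartbeats 1000000 in
theorem normalization_finite_etale {X : Scheme.{u}} [IsIntegral X] (hX : Pi1.IsNormalScheme X)
    (L : Type u) [Field L] [Algebra X.functionField L] [FiniteDimensional X.functionField L]
    (h : Spec (CommRingCat.of L) ⟶ X)
    (hdef : h = Spec.map (CommRingCat.ofHom (algebraMap X.functionField L)) ≫ X.fromSpecStalk (genericPoint X))
    [QuasiCompact h] [QuasiSeparated h]
    (Ω : Type u) [Field Ω] [IsAlgClosed Ω] (ξ : Spec (CommRingCat.of Ω) ⟶ X)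
    (hcard : Nonempty (Fin (Module.finrank X.functionField L) ↪
      {η : Spec (CommRingCat.of Ω) ⟶ h.normalization // η ≫ h.fromNormalization = ξ})) :
    ∃ U : X.Opens, Set.range ξ.base ⊆ (U : Set X) ∧
      Etale (pullback.snd h.fromNormalization U.ι) ∧ IsFinite (pullback.snd h.fromNormalization U.ι) := by
  classical
  obtain ⟨χ₀⟩ := hcard
  obtain ⟨U₀, hU₀, hxU₀, -⟩ := exists_isAffineOpen_mem_and_subset (x := Weighting.pt ξ) (U := ⊤) trivial
  haveI : Nonempty U₀.toScheme := ⟨⟨_, hxU₀⟩⟩
  let A := Γ(X, U₀)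
  haveI : IsDomain A := inferInstance
  haveI : IsFractionRing A X.functionField := functionField_isFractionRing_of_isAffineOpen X U₀ hU₀
  have hηU : genericPoint X ∈ U₀ := (genericPoint_specializes _).mem_open U₀.2 hxU₀
  have htop : h ⁻¹ᵁ U₀ = ⊤ := eq_top_iff.2 fun z _ => by
    show h z ∈ U₀
    have h1 : h z ∈ Set.range (X.fromSpecStalk (genericPoint X)) := by
      rw [hdef, Scheme.Hom.comp_apply]; exact ⟨_, rfl⟩
    rw [Scheme.range_fromSpecStalk] at h1
    exact h1.mem_open U₀.2 hηU
  let L' := Γ(Spec (CommRingCat.of L), h ⁻¹ᵁ U₀)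
  let σ : L' ≅ CommRingCat.of L :=
    (Spec (CommRingCat.of L)).presheaf.mapIso (eqToIso htop.symm).op ≪≫ Scheme.ΓSpecIso _
  have hσ : h.app U₀ ≫ σ.hom = CommRingCat.ofHom ((algebraMap X.functionField L).comp (algebraMap A X.functionField)) := by
    subst hdef
    rw [Scheme.Hom.comp_app, Scheme.fromSpecStalk_app hηU]
    simp only [σ, Iso.trans_hom, Functor.mapIso_hom, Category.assoc, Scheme.Hom.naturality_assoc]
    rw [← Functor.map_comp_assoc]
    rw [show (((Opens.map (Spec.map (CommRingCat.ofHom (algebraMap X.functionField L))).base).map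
        (homOfLE (le_top : (X.fromSpecStalk (genericPoint X)) ⁻¹ᵁ U₀ ≤ ⊤)).op.unop).op ≫ (eqToIso htop.symm).op.hom :
          Opposite.op ((Spec.map (CommRingCat.ofHom (algebraMap X.functionField L))) ⁻¹ᵁ ⊤) ⟶ Opposite.op (⊤ : (Spec (CommRingCat.of L)).Opens)) = 𝟙 _ from Subsingleton.elim _ _,
      CategoryTheory.Functor.map_id, Category.id_comp]
    erw [Scheme.ΓSpecIso_naturality (CommRingCat.ofHom (algebraMap X.functionField L)), Iso.inv_hom_id_assoc]
    rfl
  let _ : Algebra A L' := (h.app U₀).hom.toAlgebra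
  letI : Algebra A L := ((algebraMap X.functionField L).comp (algebraMap A X.functionField)).toAlgebra
  haveI : IsScalarTower A X.functionField L := IsScalarTower.of_algebraMap_eq fun _ => rfl
  let R := integralClosure A L'
  let σA : L' →ₐ[A] L := { toRingHom := σ.hom.hom, commutes' := fun a => congrArg (fun k => k.hom a) hσ }
  let ψ : R →ₐ[A] L := σA.comp R.val
  have hσi : Function.Injective σA := σ.commRingCatIsoToRingEquiv.injective
  have hσs : Function.Surjective σA := σ.commRingCatIsoToRingEquiv.surjective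
  have hψ : Function.Injective ψ := hσi.comp Subtype.val_injective
  haveI : Algebra.IsAlgebraic A L := IsFractionRing.comap_isAlgebraic_iff (K := X.functionField) |>.2 inferInstance
  have hgen : ∀ l : L, ∃ r s : R, ψ s ≠ 0 ∧ l * ψ s = ψ r := by
    intro l
    obtain ⟨a, ha0, hal⟩ := (Algebra.IsAlgebraic.isAlgebraic (R := A) l).exists_integral_multiple
    obtain ⟨r, hr⟩ := hσs (a • l)
    have hr' : IsIntegral A r := (isIntegral_algHom_iff σA hσi).1 (hr ▸ hal)
    refine ⟨⟨r, hr'⟩, algebraMap A R a, ?_, ?_⟩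
    · rw [AlgHom.commutes, IsScalarTower.algebraMap_apply A X.functionField L]
      exact fun h0 => ha0 ((map_eq_zero_iff _ (IsFractionRing.injective A X.functionField)).1
        ((map_eq_zero_iff _ (algebraMap X.functionField L).injective).1 h0))
    · rw [AlgHom.commutes, mul_comm, ← Algebra.smul_def]
      exact hr.symm
  have hA : ∀ (p : Ideal A) [p.IsPrime], IsIntegrallyClosed (Localization.AtPrime p) := by
    intro p hp
    obtain ⟨x, hx, hxp⟩ := UnibranchEtale.exists_primeIdealOf_eq hU₀ p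
    subst hxp
    letI := TopCat.Presheaf.algebra_section_stalk X.presheaf (⟨x, hx⟩ : U₀)
    haveI := hU₀.isLocalization_stalk ⟨x, hx⟩
    haveI := (hX x).2
    exact IsIntegrallyClosed.of_equiv (IsLocalization.algEquiv (hU₀.primeIdealOf ⟨x, hx⟩).asIdeal.primeCompl
      (X.presheaf.stalk x) (Localization.AtPrime (hU₀.primeIdealOf ⟨x, hx⟩).asIdeal)).toRingEquiv
  -- geometric points
  let hsec : Spec (CommRingCat.of Ω) ⟶ Spec A := IsOpenImmersion.lift hU₀.fromSpec ξ (by
    rw [hU₀.range_fromSpec]; rintro _ ⟨z, rfl⟩; rw [Weighting.apply_eq_pt]; exact hxU₀)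
  let ξ₀ := (Spec.preimage hsec).hom
  have hξ₀ : Spec.map (CommRingCat.ofHom ξ₀) ≫ hU₀.fromSpec = ξ := by
    show Spec.map (Spec.preimage hsec) ≫ _ = _
    rw [Spec.map_preimage, IsOpenImmersion.lift_fac]
  let c : Spec (CommRingCat.of R) ⟶ h.normalization := h.normalizationOpenCover.f ⟨U₀, hU₀⟩
  have hc : c ≫ h.fromNormalization = Spec.map (CommRingCat.ofHom (algebraMap A R)) ≫ hU₀.fromSpec :=
    h.ι_fromNormalization ⟨U₀, hU₀⟩
  have hcr : ∀ z, z ∈ Set.range c ↔ h.fromNormalization z ∈ U₀ := fun z => by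
    show z ∈ (h.normalizationOpenCover.f ⟨U₀, hU₀⟩).opensRange ↔ z ∈ h.fromNormalization ⁻¹ᵁ U₀
    rw [h.fromNormalization_preimage ⟨U₀, hU₀⟩]
  have hlift : ∀ η : {η : Spec (CommRingCat.of Ω) ⟶ h.normalization // η ≫ h.fromNormalization = ξ},
      ∃ k : R →+* Ω, k.comp (algebraMap A R) = ξ₀ ∧ Spec.map (CommRingCat.ofHom k) ≫ c = η.1 := by
    intro η
    haveI : IsOpenImmersion c := inferInstanceAs (IsOpenImmersion (h.normalizationOpenCover.f ⟨U₀, hU₀⟩))
    let k0 := IsOpenImmersion.lift c η.1 (by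
      rintro _ ⟨z, rfl⟩
      rw [hcr, ← Scheme.Hom.comp_apply, η.2, Weighting.apply_eq_pt]; exact hxU₀)
    refine ⟨(Spec.preimage k0).hom, ?_, ?_⟩
    · have h2 : CommRingCat.ofHom (algebraMap A R) ≫ Spec.preimage k0 = CommRingCat.ofHom ξ₀ := by
        apply Spec.map_injective
        rw [← cancel_mono hU₀.fromSpec, Spec.map_comp, Category.assoc, Spec.map_preimage, ← hc, ← Category.assoc,
          IsOpenImmersion.lift_fac, η.2, hξ₀]
      exact congrArg CommRingCat.Hom.hom h2
    · show Spec.map (Spec.preimage k0) ≫ c = _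
      rw [Spec.map_preimage, IsOpenImmersion.lift_fac]
  choose k hk1 hk2 using hlift
  let χ : Fin (Module.finrank X.functionField L) ↪ {c : R →+* Ω // c.comp (algebraMap A R) = ξ₀} :=
    ⟨fun i => ⟨k (χ₀ i), hk1 _⟩, fun i j hij => χ₀.injective (Subtype.ext (by
      have h3 : k (χ₀ i) = k (χ₀ j) := congrArg Subtype.val hij
      rw [← hk2 (χ₀ i), ← hk2 (χ₀ j), h3]))⟩
  obtain ⟨g, hg, hgF, hgE⟩ := exists_basicOpen_finiteEtale A R hA X.functionField L ψ hψ hgen Ω ξ₀ χ
  let D : (Spec A).Opens := PrimeSpectrum.basicOpen g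
  let U := hU₀.fromSpec ''ᵁ D
  let φ := Spec.map (CommRingCat.ofHom (algebraMap A R))
  have hsq : IsPullback c φ h.fromNormalization hU₀.fromSpec := by
    haveI : IsOpenImmersion c := inferInstanceAs (IsOpenImmersion (h.normalizationOpenCover.f ⟨U₀, hU₀⟩))
    exact (IsOpenImmersion.isPullback φ c hU₀.fromSpec h.fromNormalization hc (by
      rw [hU₀.opensRange_fromSpec, h.fromNormalization_preimage ⟨U₀, hU₀⟩])).flip
  refine ⟨U, ?_, ?_⟩
  · rintro _ ⟨z, rfl⟩
    refine ⟨Spec.map (CommRingCat.ofHom ξ₀) z, ?_, ?_⟩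
    · show g ∉ Ideal.comap ξ₀ (show PrimeSpectrum Ω from z).asIdeal
      intro hgz
      rw [Ideal.mem_comap] at hgz
      exact hg ((Ideal.eq_bot_of_prime (show PrimeSpectrum Ω from z).asIdeal) ▸ hgz : ξ₀ g ∈ (⊥ : Ideal Ω))
    · show hU₀.fromSpec (Spec.map (CommRingCat.ofHom ξ₀) z) = ξ z
      exact congrArg (fun q : Spec (CommRingCat.of Ω) ⟶ X => q z) hξ₀
  · -- base change to `U`
    let θ := hU₀.fromSpec.isoImage D
    have h1 : IsPullback ((φ ⁻¹ᵁ D).ι ≫ c) ((φ ∣_ D) ≫ θ.hom) h.fromNormalization U.ι := by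
      have h0 := (isPullback_morphismRestrict φ D).flip.paste_horiz hsq
      refine h0.of_iso (Iso.refl _) (Iso.refl _) θ (Iso.refl _) ?_ ?_ ?_ ?_
      · simp
      · simp
      · simp
      · simp [θ, U, Scheme.Hom.isoImage_hom_ι]
    haveI := hgF
    haveI := hgE
    rw [← MorphismProperty.cancel_left_of_respectsIso @Etale h1.isoPullback.hom,
      ← MorphismProperty.cancel_left_of_respectsIso @IsFinite h1.isoPullback.hom, IsPullback.isoPullback_hom_snd]
    exact ⟨inferInstance, inferInstance⟩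

end Groth.Agent.SepDegree
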